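import Cfsg.Agent.Lib.Recog.FiFourHeld.Hom

set_option autoImplicit false
set_option maxRecDepth 20000
set_option linter.style.haveILetI false

/-!
Fi24 as a group of 3-transpositions with its subgroups Fi23 and He (owner: helper22).
-/

namespace CfsgLib.Recog.FiFourHeld

open Cfsg CfsgLib.Recog.SporBound CfsgLib.Recog.FiFour

attribute [local instance] FiThree.finite_fi23' finite_fi24

/-- The Held subgroup of the even part. -/
noncomputable def heldEven : Spor.He →* parity.ker := held.codRestrict parity.ker held_even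

theorem heldEven_injective : Function.Injective heldEven := fun _ _ h => held_injective (congrArg Subtype.val h)

theorem isHe_of_equiv {X : Type*} [Group X] (e : Spor.He ≃* X) : IsHe X := by
  haveI := SporHe.isSimple
  haveI : Nontrivial X := e.toEquiv.symm.nontrivial
  exact ⟨IsSimpleGroup.isSimpleGroup_of_surjective e.toMonoidHom e.surjective,
    (Nat.card_congr e.symm.toEquiv).trans SporHe.card_eq⟩

theorem isFi23_of_equiv {X : Type*} [Group X] (e : Spor.Fi23 ≃* X) : IsFi23 X := by
  haveI := FiThree.isSimple_fi23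
  haveI : Nontrivial X := e.toEquiv.symm.nontrivial
  exact ⟨IsSimpleGroup.isSimpleGroup_of_surjective e.toMonoidHom e.surjective,
    (Nat.card_congr e.symm.toEquiv).trans FiThree.card_fi23⟩

theorem centralizer_conj (g : Spor.Fi24) :
    Subgroup.centralizer ({g * gg 11 * g⁻¹} : Set Spor.Fi24) = hTop.map (MulAut.conj g).toMonoidHom := by
  rw [← FiTypes.centralizer_l]
  ext y
  simp only [Subgroup.mem_map, MulEquiv.coe_toMonoidHom, MulAut.conj_apply, Subgroup.mem_centralizer_singleton_iff]
  constructor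
  · intro h
    refine ⟨g⁻¹ * y * g, ?_, by group⟩
    calc g⁻¹ * y * g * gg 11 = g⁻¹ * (y * (g * gg 11 * g⁻¹)) * g := by group
      _ = _ := by rw [h]; group
  · rintro ⟨z, hz, rfl⟩
    calc g * z * g⁻¹ * (g * gg 11 * g⁻¹) = g * (z * gg 11) * g⁻¹ := by group
      _ = _ := by rw [hz]; group

theorem class_card : Nat.card FiTypes.D24 = 306936 := by
  let f : Spor.Fi24 ⧸ hTop → FiTypes.D24 := Quotient.lift
    (fun g => (⟨g * gg 11 * g⁻¹, isConj_iff.2 ⟨g, rfl⟩⟩ : FiTypes.D24)) fun a b hab => Subtype.ext (by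
      have h := l_comm_h (QuotientGroup.leftRel_apply.1 hab)
      show a * gg 11 * a⁻¹ = b * gg 11 * b⁻¹
      calc a * gg 11 * a⁻¹ = a * (gg 11 * (a⁻¹ * b)) * b⁻¹ := by group
        _ = _ := by rw [← h]; group)
  refine (Nat.card_eq_of_bijective f ⟨?_, ?_⟩).symm.trans ((Subgroup.index_eq_card hTop).symm.trans index_hTop)
  · rintro ⟨a⟩ ⟨b⟩ e
    have e' : a * gg 11 * a⁻¹ = b * gg 11 * b⁻¹ := congrArg Subtype.val e
    refine QuotientGroup.eq.2 ?_
    rw [← FiTypes.centralizer_l, Subgroup.mem_centralizer_singleton_iff]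
    calc a⁻¹ * b * gg 11 = a⁻¹ * (b * gg 11 * b⁻¹) * b := by group
      _ = _ := by rw [← e']; group
  · rintro ⟨d, hd⟩
    obtain ⟨g, rfl⟩ := isConj_iff.1 hd
    exact ⟨QuotientGroup.mk g, rfl⟩

theorem centralizer_facts {d : Spor.Fi24} (hd : d ∈ FiTypes.D24) :
    Nat.card (Subgroup.centralizer ({d} : Set Spor.Fi24)) = 2 * 4089470473293004800 ∧
      ∃ K : Subgroup Spor.Fi24, K ≤ Subgroup.centralizer ({d} : Set Spor.Fi24) ∧ IsFi23 K := by
  obtain ⟨g, rfl⟩ := isConj_iff.1 hd
  rw [centralizer_conj]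
  refine ⟨?_, iota.range.map (MulAut.conj g).toMonoidHom, Subgroup.map_mono ?_, ?_⟩
  · rw [Subgroup.card_map_of_injective (MulAut.conj g).injective, card_hTop]
  · rintro _ ⟨u, rfl⟩; exact iota_mem u
  · exact isFi23_of_equiv ((MonoidHom.ofInjective iota_injective).trans
      (Subgroup.equivMapOfInjective _ _ (MulAut.conj g).injective))

theorem index_even : parity.ker.index = 2 := by
  have h := Subgroup.card_mul_index parity.ker
  rw [card_even, card_fi24] at h
  omega

theorem even_fi23 : ∃ K : Subgroup parity.ker, IsFi23 K := by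
  obtain ⟨e⟩ := kK_equiv
  exact ⟨kK, isFi23_of_equiv e.symm⟩

theorem even_he : ∃ K : Subgroup parity.ker, IsHe K :=
  ⟨heldEven.range, isHe_of_equiv (MonoidHom.ofInjective heldEven_injective)⟩

end CfsgLib.Recog.FiFourHeld
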